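import Groth.Agent.GrpdFittLib.Generic
import Groth.Agent.GrpdGenericLib.Main

/-!
Invariant affine neighbourhoods with locally free thickened groupoids at generic orbits.
-/

set_option autoImplicit false
set_option linter.style.haveILetI false
universe u

open CategoryTheory CategoryTheory.Limits AlgebraicGeometry TopologicalSpace

noncomputable section

namespace Groth.Agent.GrpdFittLib

open FinGrpdLib (Rel)

/-- Elements of a minimal prime are nilpotent near it. -/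
theorem exists_mul_pow_eq_zero {A : Type u} [CommRing A] (p : PrimeSpectrum A)
    (hmin : ∀ q : PrimeSpectrum A, q.asIdeal ≤ p.asIdeal → q = p) {a : A} (ha : a ∈ p.asIdeal) :
    ∃ h ∉ p.asIdeal, ∃ n : ℕ, h * a ^ n = 0 := by
  by_contra hcon
  push Not at hcon
  let M : Submonoid A := p.asIdeal.primeCompl ⊔ Submonoid.powers a
  have hM : (0 : A) ∉ M := fun h0 => by
    obtain ⟨h, hh, _, ⟨n, rfl⟩, e⟩ := Submonoid.mem_sup.1 h0
    exact hcon h hh n e
  obtain ⟨q, hq, -, hdisj⟩ := Ideal.exists_le_prime_disjoint (⊥ : Ideal A) M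
    (Set.disjoint_left.2 fun z hz hzM => hM (by rw [SetLike.mem_coe, Ideal.mem_bot] at hz; exact hz ▸ hzM))
  have hle : q ≤ p.asIdeal := fun z hz => by_contra fun hzp =>
    Set.disjoint_left.1 hdisj hz (Submonoid.mem_sup_left (show z ∈ p.asIdeal.primeCompl from hzp))
  have := hmin ⟨q, hq⟩ hle
  exact Set.disjoint_left.1 hdisj (show a ∈ (⟨q, hq⟩ : PrimeSpectrum A).asIdeal by rw [this]; exact ha)
    (Submonoid.mem_sup_right (Submonoid.mem_powers a))

/-- A generic point has an affine neighbourhood avoiding a given compact open not containing it. -/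
theorem exists_affine_disjoint {X : Scheme.{u}} [QuasiSeparatedSpace X] {x : X} (hgen : ∀ z : X, z ⤳ x → z = x)
    (D O : X.Opens) (hD : IsCompact (D : Set X)) (hxD : x ∉ D) (hxO : x ∈ O) :
    ∃ E : X.Opens, IsAffineOpen E ∧ x ∈ E ∧ E ≤ O ∧ Disjoint E D := by
  classical
  obtain ⟨_, ⟨E₀ : X.Opens, hE, rfl⟩, hxE, hEO⟩ := X.isBasis_affineOpens.exists_subset_of_mem_open hxO O.2
  have hK : IsCompact ((E₀ : Set X) ∩ (D : Set X)) :=
    QuasiSeparatedSpace.inter_isCompact (E₀ : Set X) (D : Set X) E₀.2 hE.isCompact D.2 hD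
  let p := hE.primeIdealOf ⟨x, hxE⟩
  have hmin : ∀ q : PrimeSpectrum Γ(X, E₀), q.asIdeal ≤ p.asIdeal → q = p := fun q hq => by
    have h1 : q ⤳ p := (PrimeSpectrum.le_iff_specializes _ _).1 hq
    have h2 := h1.map hE.fromSpec.continuous
    rw [hE.fromSpec_primeIdealOf] at h2
    refine hE.fromSpec.isOpenEmbedding.injective ?_
    rw [hE.fromSpec_primeIdealOf]
    exact hgen _ h2
  let J : Type u := {g : Γ(X, E₀) // (X.basicOpen g : Set X) ⊆ D}
  obtain ⟨b, hb⟩ := hK.elim_finite_subcover (fun g : J => (X.basicOpen g.1 : Set X)) (fun g => (X.basicOpen g.1).2)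
    (fun z hz => by
      obtain ⟨g, hg, hzg⟩ := hE.exists_basicOpen_le (V := D) ⟨z, hz.2⟩ hz.1
      exact Set.mem_iUnion.2 ⟨⟨g, hg⟩, hzg⟩)
  have hgp : ∀ g ∈ b, (g : J).1 ∈ p.asIdeal := fun g _ => by
    by_contra h
    exact hxD (g.2 ((PullbackMod.primeCompl_primeIdealOf hE x hxE g.1).1 h))
  choose h hh n hn using fun g : b => exists_mul_pow_eq_zero p hmin (hgp g.1 g.2)
  let F : Γ(X, E₀) := ∏ g, h g
  have hxF : x ∈ X.basicOpen F :=
    (PullbackMod.primeCompl_primeIdealOf hE x hxE F).1 (prod_mem fun g _ => (show h g ∈ p.asIdeal.primeCompl from hh g))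
  refine ⟨X.basicOpen F, hE.basicOpen F, hxF, fun z hz => hEO (X.basicOpen_le F hz), ?_⟩
  rw [disjoint_iff]
  refine eq_bot_iff.2 fun z hz => ?_
  have hzE : z ∈ E₀ := X.basicOpen_le F hz.1
  obtain ⟨g, hgb, hzg⟩ := Set.mem_iUnion₂.1 (hb ⟨hzE, hz.2⟩)
  have hFq := (PullbackMod.primeCompl_primeIdealOf hE z hzE F).2 hz.1
  have hgq := (PullbackMod.primeCompl_primeIdealOf hE z hzE g.1).2 hzg
  have h0 : h ⟨g, hgb⟩ * g.1 ^ n ⟨g, hgb⟩ ∈ (hE.primeIdealOf ⟨z, hzE⟩).asIdeal := by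
    rw [hn ⟨g, hgb⟩]; exact zero_mem _
  rcases (hE.primeIdealOf ⟨z, hzE⟩).2.mem_or_mem h0 with h' | h'
  · exact absurd (Ideal.mem_of_dvd _ (Finset.dvd_prod_of_mem h (Finset.mem_univ (⟨g, hgb⟩ : b))) h') hFq
  · exact absurd ((hE.primeIdealOf ⟨z, hzE⟩).2.mem_of_pow_mem _ h') hgq

/-- Finitely many generic points lie in an affine open inside any open containing them. -/
theorem exists_affine_of_generic {X : Scheme.{u}} [QuasiSeparatedSpace X] (O : X.Opens) {P : Set X} (hP : P.Finite)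
    (hgen : ∀ y ∈ P, ∀ z : X, z ⤳ y → z = y) (hPO : P ⊆ O) :
    ∃ D : X.Opens, IsAffineOpen D ∧ P ⊆ D ∧ D ≤ O := by
  induction P, hP using Set.Finite.induction_on with
  | empty => exact ⟨⊥, isAffineOpen_bot _, Set.empty_subset _, bot_le⟩
  | @insert x s _ _ ih =>
    obtain ⟨D, hD, hsD, hDO⟩ := ih (fun y hy => hgen y (Set.mem_insert_of_mem _ hy))
      fun y hy => hPO (Set.mem_insert_of_mem _ hy)
    by_cases hxD : x ∈ D
    · exact ⟨D, hD, Set.insert_subset hxD hsD, hDO⟩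
    · obtain ⟨E, hE, hxE, hEO, hdisj⟩ := exists_affine_disjoint (hgen x (Set.mem_insert _ _)) D O hD.isCompact hxD
        (hPO (Set.mem_insert _ _))
      exact ⟨E ⊔ D, hE.sup_of_disjoint hD hdisj, Set.insert_subset (Or.inl hxE) fun y hy => Or.inr (hsD hy),
        sup_le hEO hDO⟩

variable {S : Scheme.{u}} (G : Grpd.GroupoidScheme S) [IsFinite G.s] [IsFinite G.t]
  [LocallyOfFinitePresentation G.s] [QuasiSeparatedSpace G.U]

/-- An invariant affine open inside `W` around finitely many generic orbits. -/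
theorem exists_invariant_affine_W {m : ℕ} (u : Fin m → G.U)
    (hu : ∀ i (y : G.U), Rel G y (u i) → ∀ x : G.U, x ⤳ y → x = y) :
    ∃ V : G.U.Opens, IsAffineOpen V ∧ (∀ i, u i ∈ V) ∧ G.s ⁻¹ᵁ V = G.t ⁻¹ᵁ V ∧ V ≤ W G := by
  let O₀ : Set G.U := ⋃ i, {y | Rel G y (u i)}
  have hfin : O₀.Finite := Set.finite_iUnion fun i => FinGrpdLib.finite_rel (u i)
  have hgen : ∀ y ∈ O₀, ∀ z : G.U, z ⤳ y → z = y := fun y hy => by
    obtain ⟨i, hi⟩ := Set.mem_iUnion.1 hy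
    exact hu i y hi
  have hW : O₀ ⊆ W G := fun y hy => by
    obtain ⟨i, hi⟩ := Set.mem_iUnion.1 hy
    exact mem_W_of_generic G y fun z hz => hu i z (hz.trans hi)
  obtain ⟨D, hD, hPD, hDW⟩ := exists_affine_of_generic (W G) hfin hgen hW
  obtain ⟨U₁, hU₁⟩ := FinGrpdLib.exists_interior G D
  have hU₁D : U₁ ≤ D := fun x hx => (hU₁ x).1 hx x (Rel.refl G x)
  have hinv : G.s ⁻¹ᵁ U₁ = G.t ⁻¹ᵁ U₁ :=
    (FinGrpdLib.invariant_iff G U₁).2 fun {x y} hxy hx => (hU₁ y).2 fun z hz => (hU₁ x).1 hx z (hz.trans hxy.symm)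
  have huU : ∀ i, u i ∈ U₁ := fun i => (hU₁ _).2 fun y hy => hPD (Set.mem_iUnion.2 ⟨i, hy⟩)
  let H := FinGrpdLib.res G U₁ hinv
  let j : H.U ⟶ Spec Γ(G.U, D) := G.U.homOfLE hU₁D ≫ hD.isoSpec.hom
  haveI : IsOpenImmersion j := inferInstanceAs (IsOpenImmersion (G.U.homOfLE hU₁D ≫ hD.isoSpec.hom))
  obtain ⟨I, hI⟩ : ∃ I : Ideal Γ(G.U, D), PrimeSpectrum.zeroLocus (I : Set Γ(G.U, D)) = (Set.range j)ᶜ := by
    refine ⟨PrimeSpectrum.vanishingIdeal (Set.range j)ᶜ, ?_⟩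
    exact (PrimeSpectrum.zeroLocus_vanishingIdeal_eq_closure _).trans
      (IsClosed.closure_eq j.isOpenEmbedding.isOpen_range.isClosed_compl)
  have hrel : ∀ a b : H.U, Rel H a b → Rel G (U₁.ι a) (U₁.ι b) := by
    rintro a b ⟨r, rfl, rfl⟩
    refine ⟨(G.s ⁻¹ᵁ U₁).ι r, ?_, ?_⟩
    · show ((G.s ⁻¹ᵁ U₁).ι ≫ G.t) r = (G.t.resLE U₁ (G.s ⁻¹ᵁ U₁) hinv.le ≫ U₁.ι) r
      rw [Scheme.Hom.resLE_comp_ι]
    · show ((G.s ⁻¹ᵁ U₁).ι ≫ G.s) r = ((G.s ∣_ U₁) ≫ U₁.ι) r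
      rw [morphismRestrict_ι]
  haveI : IsFinite H.t := by
    show IsFinite (G.t.resLE U₁ (G.s ⁻¹ᵁ U₁) hinv.le)
    exact MorphismProperty.of_isPullback (P := @IsFinite) (isPullback_resLE_open G.t U₁ _ hinv) inferInstance
  obtain ⟨h, -, haff, hmem, hinv'⟩ := GrpdGenericLib.exists_invariant_basicOpen H (fun i => (⟨u i, huU i⟩ : U₁.toScheme))
    (fun i y hy x hxy => U₁.ι.isOpenEmbedding.injective
      (hu i (U₁.ι y) (hrel _ _ hy) _ (hxy.map U₁.ι.continuous)))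
    j I (fun x hx => by rw [hI] at hx; exact hx ⟨x, rfl⟩)
    (by rw [hI]; exact (Set.compl_union_self (Set.range j)).symm ▸ isClosed_univ)
  let V₁ : U₁.toScheme.Opens := j ⁻¹ᵁ PrimeSpectrum.basicOpen h
  refine ⟨U₁.ι ''ᵁ V₁, (show IsAffineOpen V₁ from haff).image_of_isOpenImmersion U₁.ι, fun i => ⟨_, hmem i, rfl⟩, ?_, ?_⟩
  · rw [FinGrpdLib.invariant_iff G]
    rintro x y hxy ⟨a, ha, rfl⟩
    have hy : y ∈ U₁ := (FinGrpdLib.invariant_iff G U₁).1 hinv hxy a.2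
    obtain ⟨r, hr1, hr2⟩ := hxy
    have hr : r ∈ G.s ⁻¹ᵁ U₁ := show G.s r ∈ U₁ from hr2 ▸ hy
    have e1 : H.t ⟨r, hr⟩ = a := U₁.ι.isOpenEmbedding.injective (by
      show (G.t.resLE U₁ (G.s ⁻¹ᵁ U₁) hinv.le ≫ U₁.ι) (⟨r, hr⟩ : (G.s ⁻¹ᵁ U₁).toScheme) = _
      rw [Scheme.Hom.resLE_comp_ι]
      exact hr1)
    have e2 : U₁.ι (H.s ⟨r, hr⟩) = y := by
      show ((G.s ∣_ U₁) ≫ U₁.ι) (⟨r, hr⟩ : (G.s ⁻¹ᵁ U₁).toScheme) = _
      rw [morphismRestrict_ι]
      exact hr2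
    exact ⟨H.s ⟨r, hr⟩, (FinGrpdLib.invariant_iff H V₁).1 hinv' ⟨_, e1, rfl⟩ ha, e2⟩
  · rintro x ⟨a, -, rfl⟩
    exact hDW (hU₁D a.2)

/-- The invariant affine thickening. -/
theorem exists_thickening {m : ℕ} (u : Fin m → G.U)
    (hu : ∀ i (y : G.U), Rel G y (u i) → ∀ x : G.U, x ⤳ y → x = y) :
    ∃ (V : G.U.Opens) (V' : (↑V : Scheme.{u}).IdealSheafData), IsAffineOpen V ∧ (∀ i, u i ∈ V) ∧
      G.s ⁻¹ᵁ V = G.t ⁻¹ᵁ V ∧ V'.support = ⊤ ∧ LocallyOfFinitePresentation V'.subschemeι ∧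
      (∃ φ : pullback G.s (V'.subschemeι ≫ V.ι) ≅ pullback G.t (V'.subschemeι ≫ V.ι),
        φ.hom ≫ pullback.fst G.t (V'.subschemeι ≫ V.ι) = pullback.fst G.s (V'.subschemeι ≫ V.ι)) ∧
      Mor2.IsFinLocFree (pullback.snd G.s (V'.subschemeι ≫ V.ι)) ∧
      Mor2.IsFinLocFree (pullback.snd G.t (V'.subschemeι ≫ V.ι)) := by
  obtain ⟨V, hV, huV, hinv, hVW⟩ := exists_invariant_affine_W G u hu
  let k : V.toScheme ⟶ (W G).toScheme := G.U.homOfLE hVW
  let V' := (W' G).comap k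
  let l : V'.subscheme ⟶ (W' G).subscheme := ((W' G).comapIso k).hom ≫ pullback.snd k (W' G).subschemeι
  have hl : V'.subschemeι ≫ V.ι = l ≫ incl G := by
    simp only [l, incl, Category.assoc]
    rw [← pullback.condition_assoc, ← Category.assoc, Scheme.IdealSheafData.comapIso_hom_fst]
    simp [k, V']
  haveI hlfp := lfp_subschemeι G
  have hV'lfp : LocallyOfFinitePresentation V'.subschemeι := by
    rw [← Scheme.IdealSheafData.comapIso_hom_fst]
    infer_instance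
  refine ⟨V, V', hV, huV, hinv, ?_, hV'lfp, ?_, ?_, ?_⟩
  · rw [Scheme.IdealSheafData.support_comap, support_W']
    rfl
  · let sV : (G.s ⁻¹ᵁ V).toScheme ⟶ V.toScheme := G.s.resLE V (G.s ⁻¹ᵁ V) le_rfl
    let tV : (G.s ⁻¹ᵁ V).toScheme ⟶ V.toScheme := G.t.resLE V (G.s ⁻¹ᵁ V) hinv.le
    let ρ : (G.s ⁻¹ᵁ V).toScheme ⟶ (G.s ⁻¹ᵁ W G).toScheme := G.R.homOfLE (G.s.preimage_mono hVW)
    have hsρ : sV ≫ k = ρ ≫ sW G := by
      rw [← cancel_mono (W G).ι]; simp [sV, k, ρ]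
    have htρ : tV ≫ k = ρ ≫ tW G := by
      rw [← cancel_mono (W G).ι]; simp [tV, k, ρ]
    have hcomap : V'.comap sV = V'.comap tV := by
      rw [← Scheme.IdealSheafData.comap_comp, ← Scheme.IdealSheafData.comap_comp, hsρ, htρ,
        Scheme.IdealSheafData.comap_comp, Scheme.IdealSheafData.comap_comp, comap_W'_eq G]
    obtain ⟨φ, hφ⟩ := exists_iso_of_comap_eq sV tV V'.subschemeι V'.subschemeι
      (by rw [Scheme.IdealSheafData.ker_subschemeι]; exact hcomap)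
    have h1 : IsPullback (pullback.fst sV V'.subschemeι ≫ (G.s ⁻¹ᵁ V).ι)
        (pullback.snd sV V'.subschemeι) G.s (V'.subschemeι ≫ V.ι) :=
      (IsPullback.of_hasPullback sV V'.subschemeι).paste_horiz (isPullback_resLE_open G.s V (G.s ⁻¹ᵁ V) rfl)
    have h2 : IsPullback (pullback.fst tV V'.subschemeι ≫ (G.s ⁻¹ᵁ V).ι)
        (pullback.snd tV V'.subschemeι) G.t (V'.subschemeι ≫ V.ι) :=
      (IsPullback.of_hasPullback tV V'.subschemeι).paste_horiz (isPullback_resLE_open G.t V (G.s ⁻¹ᵁ V) hinv)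
    refine ⟨h1.isoPullback.symm ≪≫ φ ≪≫ h2.isoPullback, ?_⟩
    simp only [Iso.trans_hom, Iso.symm_hom, Category.assoc, h2.isoPullback_hom_fst]
    rw [reassoc_of% hφ, h1.isoPullback_inv_fst]
  all_goals
    rw [hl]
  · obtain ⟨h1, h2, h3⟩ := finLocFree_s G
    have hc : IsPullback (pullback.map G.s (l ≫ incl G) G.s (incl G) (𝟙 _) l (𝟙 _) (by simp) (by simp))
        (pullback.snd G.s (l ≫ incl G)) (pullback.snd G.s (incl G)) l :=
      IsPullback.of_right (by rw [pullback.lift_fst, Category.comp_id]; exact IsPullback.of_hasPullback G.s (l ≫ incl G)) (pullback.lift_snd _ _ _)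
        (IsPullback.of_hasPullback G.s (incl G))
    exact ⟨MorphismProperty.of_isPullback hc h1, MorphismProperty.of_isPullback hc h2,
      MorphismProperty.of_isPullback hc h3⟩
  · obtain ⟨h1, h2, h3⟩ := finLocFree_t G
    have hc : IsPullback (pullback.map G.t (l ≫ incl G) G.t (incl G) (𝟙 _) l (𝟙 _) (by simp) (by simp))
        (pullback.snd G.t (l ≫ incl G)) (pullback.snd G.t (incl G)) l :=
      IsPullback.of_right (by rw [pullback.lift_fst, Category.comp_id]; exact IsPullback.of_hasPullback G.t (l ≫ incl G)) (pullback.lift_snd _ _ _)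
        (IsPullback.of_hasPullback G.t (incl G))
    exact ⟨MorphismProperty.of_isPullback hc h1, MorphismProperty.of_isPullback hc h2,
      MorphismProperty.of_isPullback hc h3⟩

end Groth.Agent.GrpdFittLib
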