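import Groth.Agent.FittSheafLib.Basic
import Groth.Agent.FittTrLib.Bot
import Groth.Agent.IdealStalkLib.Comap
import Groth.Agent.PullbackMod.Flat
import Groth.Agent.Codim1Iso.Scheme
import Groth.Agent.S13456
import Groth.Agent.S6895
import Groth.Agent.FittLib.Principal
import Groth.Prelude.Def_Mor2

/-!
Fitting ideals of the structure sheaf of a finite scheme over its base.
-/

set_option autoImplicit false
set_option linter.style.haveILetI false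
universe u

open CategoryTheory CategoryTheory.Limits AlgebraicGeometry TopologicalSpace
open scoped TensorProduct

noncomputable section

namespace Groth.Agent.GrpdFittLib

variable {R U : Scheme.{u}}

/-- The Fitting ideal of the sections over `W` as a module over the sections over `V`. -/
def fitA (f : R ⟶ U) (V : U.Opens) (W : R.Opens) (e : W ≤ f ⁻¹ᵁ V) (k : ℕ) : Ideal Γ(U, V) :=
  letI := (f.appLE V W e).hom.toAlgebra
  Fitt.ideal Γ(U, V) Γ(R, W) k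

theorem finite_appLE (f : R ⟶ U) [IsFinite f] {V : U.Opens} (hV : IsAffineOpen V) :
    (f.appLE V (f ⁻¹ᵁ V) le_rfl).hom.Finite := by
  simp only [Scheme.Hom.appLE_eq_app]
  exact f.finite_app V hV

/-- Compatibility with base change on affine opens. -/
theorem fitA_map {R' U' : Scheme.{u}} {f : R ⟶ U} [IsFinite f] {f' : R' ⟶ U'} {g' : R' ⟶ R}
    {g : U' ⟶ U} (hc : IsPullback g' f' f g) {V : U.Opens} (hV : IsAffineOpen V) {V' : U'.Opens}
    (hV' : IsAffineOpen V') (e' : V' ≤ g ⁻¹ᵁ V) (k : ℕ) :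
    (fitA f V (f ⁻¹ᵁ V) le_rfl k).map (g.appLE V V' e').hom = fitA f' V' (f' ⁻¹ᵁ V') le_rfl k := by
  obtain ⟨-, h⟩ := PullbackMod.isPushout_appLE hc hV (hV.preimage f) hV' le_rfl e'
  have heq : g' ⁻¹ᵁ (f ⁻¹ᵁ V) ⊓ f' ⁻¹ᵁ V' = f' ⁻¹ᵁ V' := by
    refine inf_eq_right.2 fun x hx => ?_
    show f (g' x) ∈ V
    rw [← Scheme.Hom.comp_apply, hc.w, Scheme.Hom.comp_apply]
    exact e' hx
  suffices H : (fitA f V (f ⁻¹ᵁ V) le_rfl k).map (g.appLE V V' e').hom =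
      fitA f' V' (g' ⁻¹ᵁ (f ⁻¹ᵁ V) ⊓ f' ⁻¹ᵁ V') inf_le_right k by
    refine H.trans ?_
    have key : ∀ (W : R'.Opens) (e : W ≤ f' ⁻¹ᵁ V'), W = f' ⁻¹ᵁ V' →
        fitA f' V' W e k = fitA f' V' (f' ⁻¹ᵁ V') le_rfl k := fun W e hW => by subst hW; rfl
    exact key _ _ heq
  let W' : R'.Opens := g' ⁻¹ᵁ (f ⁻¹ᵁ V) ⊓ f' ⁻¹ᵁ V'
  letI : Algebra Γ(U, V) Γ(R, f ⁻¹ᵁ V) := (f.appLE V _ le_rfl).hom.toAlgebra
  letI : Algebra Γ(U, V) Γ(U', V') := (g.appLE V V' e').hom.toAlgebra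
  letI : Algebra Γ(R, f ⁻¹ᵁ V) Γ(R', W') := (g'.appLE (f ⁻¹ᵁ V) _ inf_le_left).hom.toAlgebra
  letI : Algebra Γ(U', V') Γ(R', W') := (f'.appLE V' _ inf_le_right).hom.toAlgebra
  letI : Algebra Γ(U, V) Γ(R', W') :=
    ((g'.appLE (f ⁻¹ᵁ V) _ inf_le_left).hom.comp (f.appLE V _ le_rfl).hom).toAlgebra
  haveI : IsScalarTower Γ(U, V) Γ(R, f ⁻¹ᵁ V) Γ(R', W') := .of_algebraMap_eq fun _ => rfl
  haveI : IsScalarTower Γ(U, V) Γ(U', V') Γ(R', W') := .of_algebraMap_eq' (by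
    show ((f.appLE V (f ⁻¹ᵁ V) le_rfl) ≫ g'.appLE (f ⁻¹ᵁ V) W' inf_le_left).hom =
      ((g.appLE V V' e') ≫ f'.appLE V' W' inf_le_right).hom
    simp only [Scheme.Hom.appLE_comp_appLE, hc.w])
  haveI : Algebra.IsPushout Γ(U, V) Γ(U', V') Γ(R, f ⁻¹ᵁ V) Γ(R', W') := h
  haveI : Module.Finite Γ(U, V) Γ(R, f ⁻¹ᵁ V) := finite_appLE f hV
  exact FittSheafLib.fitt_map_of_isBaseChange
    (IsScalarTower.toAlgHom Γ(U, V) Γ(R, f ⁻¹ᵁ V) Γ(R', W')).toLinearMap Algebra.IsPushout.out k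

/-- The Fitting ideal sheaves of a finite morphism. -/
def fit (f : R ⟶ U) [IsFinite f] (k : ℕ) : U.IdealSheafData where
  ideal V := fitA f V.1 (f ⁻¹ᵁ V.1) le_rfl k
  map_ideal_basicOpen V b := by
    have h : IsPullback (𝟙 R) f f (𝟙 U) := IsPullback.of_horiz_isIso ⟨by simp⟩
    have := fitA_map h V.2 (V.2.basicOpen b) (V' := U.basicOpen b) (U.basicOpen_le b) k
    rwa [show (𝟙 U : U ⟶ U).appLE V.1 (U.basicOpen b) (U.basicOpen_le b) =
      U.presheaf.map (homOfLE (U.basicOpen_le b)).op by simp [Scheme.Hom.appLE]; exact Category.id_comp _] at this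

theorem fit_ideal (f : R ⟶ U) [IsFinite f] (k : ℕ) (V : U.affineOpens) :
    (fit f k).ideal V = fitA f V.1 (f ⁻¹ᵁ V.1) le_rfl k := rfl

/-- Base change of the Fitting ideal sheaves. -/
theorem comap_fit {R' U' : Scheme.{u}} {f : R ⟶ U} [IsFinite f] {f' : R' ⟶ U'} [IsFinite f']
    {g' : R' ⟶ R} {g : U' ⟶ U} (hc : IsPullback g' f' f g) (k : ℕ) :
    (fit f k).comap g = fit f' k := by
  let ι := {V' : U'.affineOpens // ∃ V : U.affineOpens, V'.1 ≤ g ⁻¹ᵁ V.1}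
  refine Scheme.IdealSheafData.ext_of_iSup_eq_top (ι := ι) (fun i => i.1) (top_le_iff.1 fun x _ => ?_) fun i => ?_
  · obtain ⟨_, ⟨V : U.Opens, hV, rfl⟩, hxV, -⟩ :=
      U.isBasis_affineOpens.exists_subset_of_mem_open (Set.mem_univ (g x)) isOpen_univ
    obtain ⟨_, ⟨V' : U'.Opens, hV', rfl⟩, hxV', hV'V⟩ :=
      U'.isBasis_affineOpens.exists_subset_of_mem_open (a := x) (u := ↑(g ⁻¹ᵁ V)) hxV (g ⁻¹ᵁ V).2
    exact Opens.mem_iSup.2 ⟨⟨⟨V', hV'⟩, ⟨⟨V, hV⟩, hV'V⟩⟩, hxV'⟩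
  · obtain ⟨⟨V', hV'⟩, ⟨V, hV⟩, hle⟩ := i
    rw [IdealStalkLib.comap_ideal _ g hV hV' hle, fit_ideal, fit_ideal]
    exact fitA_map hc hV hV' hle k

theorem fit_mono (f : R ⟶ U) [IsFinite f] : Monotone (fit f) := fun j k hjk V => by
  letI := (f.appLE V.1 (f ⁻¹ᵁ V.1) le_rfl).hom.toAlgebra
  exact S13456.ideal_mono _ hjk

theorem exists_fit_eq_top (f : R ⟶ U) [IsFinite f] (V : U.affineOpens) : ∃ k, (fit f k).ideal V = ⊤ := by
  letI := (f.appLE V.1 (f ⁻¹ᵁ V.1) le_rfl).hom.toAlgebra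
  haveI : Module.Finite Γ(U, V.1) Γ(R, f ⁻¹ᵁ V.1) := finite_appLE f V.2
  obtain ⟨n, x, hx⟩ := Module.Finite.exists_fin (R := Γ(U, V.1)) (M := Γ(R, f ⁻¹ᵁ V.1))
  exact ⟨n, FittLib.ideal_eq_top x hx le_rfl⟩

theorem iInter_support_fit (f : R ⟶ U) [IsFinite f] : (⋂ k, ((fit f k).support : Set U)) = ∅ := by
  refine Set.eq_empty_of_forall_notMem fun x hx => ?_
  obtain ⟨_, ⟨V : U.Opens, hV, rfl⟩, hxV, -⟩ :=
    U.isBasis_affineOpens.exists_subset_of_mem_open (Set.mem_univ x) isOpen_univ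
  obtain ⟨k, hk⟩ := exists_fit_eq_top f ⟨V, hV⟩
  have h := Set.mem_iInter.1 hx k
  rw [SetLike.mem_coe, Scheme.IdealSheafData.mem_support_iff_of_mem (U := ⟨V, hV⟩) hxV, hk, Scheme.mem_zeroLocus_iff] at h
  exact h 1 Submodule.mem_top (by rw [Scheme.basicOpen_of_isUnit _ isUnit_one]; exact hxV)

/-- The structure sheaf is a direct summand in the presence of a section. -/
theorem fit_zero_of_section (f : R ⟶ U) [IsFinite f] (e : U ⟶ R) (he : e ≫ f = 𝟙 U) : fit f 0 = ⊥ := by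
  refine Scheme.IdealSheafData.ext (funext fun V => ?_)
  rw [Scheme.IdealSheafData.ideal_bot, Pi.bot_apply, eq_bot_iff, fit_ideal]
  letI := (f.appLE V.1 (f ⁻¹ᵁ V.1) le_rfl).hom.toAlgebra
  haveI : Module.Finite Γ(U, V.1) Γ(R, f ⁻¹ᵁ V.1) := finite_appLE f V.2
  intro a ha
  have h1 : a • (1 : Γ(R, f ⁻¹ᵁ V.1)) = 0 := Module.mem_annihilator.1 (FittLib.ideal_zero_le_annihilator ha) 1
  rw [← Algebra.algebraMap_eq_smul_one] at h1
  have hle : V.1 ≤ e ⁻¹ᵁ (f ⁻¹ᵁ V.1) := fun x hx => by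
    show f (e x) ∈ V.1
    rwa [← Scheme.Hom.comp_apply, he]
  have h2 : (f.appLE V.1 (f ⁻¹ᵁ V.1) le_rfl ≫ e.appLE (f ⁻¹ᵁ V.1) V.1 hle).hom a = 0 := by
    rw [CommRingCat.hom_comp, RingHom.comp_apply]
    exact (congrArg _ h1).trans (map_zero _)
  rw [Scheme.Hom.appLE_comp_appLE] at h2
  simp only [he] at h2
  rw [show (𝟙 U : U ⟶ U).appLE V.1 V.1 (by simp) = 𝟙 _ by simp [Scheme.Hom.appLE]; exact (Category.id_comp _).trans (U.presheaf.map_id _)] at h2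
  exact (Ideal.mem_bot).2 h2

theorem fg_fit (f : R ⟶ U) [IsFinite f] [LocallyOfFinitePresentation f] (k : ℕ) (V : U.affineOpens) :
    ((fit f k).ideal V).FG := by
  classical
  letI := (f.appLE V.1 (f ⁻¹ᵁ V.1) le_rfl).hom.toAlgebra
  haveI : Module.Finite Γ(U, V.1) Γ(R, f ⁻¹ᵁ V.1) := finite_appLE f V.2
  haveI : Algebra.FinitePresentation Γ(U, V.1) Γ(R, f ⁻¹ᵁ V.1) :=
    HasRingHomProperty.appLE (P := @LocallyOfFinitePresentation) f inferInstance V ⟨_, V.2.preimage f⟩ le_rfl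
  haveI := Module.FinitePresentation.of_finite_of_finitePresentation (R := Γ(U, V.1)) (S := Γ(R, f ⁻¹ᵁ V.1))
  exact (S6892.result Γ(R, f ⁻¹ᵁ V.1) Γ(R, f ⁻¹ᵁ V.1) k).2.1 inferInstance

theorem fitA_iff {A M : Type u} [CommRing A] [AddCommGroup M] [Module A M] [Module.Finite A M] {r : ℕ}
    (h1 : Fitt.ideal A M r = ⊥) (h2 : Fitt.ideal A M (r + 1) = ⊤) :
    Module.FinitePresentation A M ∧ Module.Projective A M ∧
      ∀ p : PrimeSpectrum A, Module.rankAtStalk M p = r + 1 := by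
  have hfit : (∀ k, k < r + 1 → Fitt.ideal A M k = ⊥) ∧ ∀ k, r + 1 ≤ k → Fitt.ideal A M k = ⊤ :=
    ⟨fun k hk => eq_bot_iff.2 (h1 ▸ S13456.ideal_mono M (show k ≤ r by omega)),
      fun k hk => eq_top_iff.2 (h2 ▸ S13456.ideal_mono M hk)⟩
  have hfree := (S6895.result M (r + 1)).2 hfit
  choose f hf hF hr using hfree
  haveI : Module.FinitePresentation A M := by
    refine Module.FinitePresentation.of_localizationSpan
      (s := Set.range fun p : PrimeSpectrum A => f p.asIdeal) ?_ ?_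
    · by_contra hne
      obtain ⟨m, hm, hle⟩ := Ideal.exists_le_maximal _ hne
      exact hf m (hle (Ideal.subset_span ⟨⟨m, hm.isPrime⟩, rfl⟩))
    · rintro ⟨_, p, rfl⟩
      haveI := hF p.asIdeal
      haveI : Module.Finite (Localization.Away (f p.asIdeal)) (LocalizedModule (Submonoid.powers (f p.asIdeal)) M) :=
        Module.Finite.of_isLocalizedModule (Submonoid.powers (f p.asIdeal))
          (LocalizedModule.mkLinearMap (Submonoid.powers (f p.asIdeal)) M)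
      exact Module.finitePresentation_of_projective _ _
  obtain ⟨hP, hR⟩ := (S13456.projective_rank_iff M (r + 1)).2
    ⟨h2, fun k hk => hfit.1 k hk⟩
  exact ⟨inferInstance, hP, hR⟩

/-- Locally free of rank `r + 1` where the Fitting ideals are `0` and `1`. -/
theorem finLocFree_of_fit (f : R ⟶ U) [IsFinite f] {ι : Type*} (V : ι → U.affineOpens) (r : ι → ℕ)
    (hV : ∀ x : U, ∃ i, x ∈ (V i).1) (h1 : ∀ i, (fit f (r i)).ideal (V i) = ⊥)
    (h2 : ∀ i, (fit f (r i + 1)).ideal (V i) = ⊤) :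
    Mor2.IsFinLocFree f ∧ ∀ i, ∀ x ∈ (V i).1, f.finrank x = r i + 1 := by
  have key : ∀ i, (f.app (V i).1).hom.Flat ∧ (f.app (V i).1).hom.FinitePresentation ∧
      (letI := (f.app (V i).1).hom.toAlgebra
      ∀ p : PrimeSpectrum Γ(U, (V i).1), Module.rankAtStalk Γ(R, f ⁻¹ᵁ (V i).1) p = r i + 1) := by
    intro i
    letI : Algebra Γ(U, (V i).1) Γ(R, f ⁻¹ᵁ (V i).1) := (f.app (V i).1).hom.toAlgebra
    haveI : Module.Finite Γ(U, (V i).1) Γ(R, f ⁻¹ᵁ (V i).1) := f.finite_app _ (V i).2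
    have e : ∀ k, (fit f k).ideal (V i) = Fitt.ideal Γ(U, (V i).1) Γ(R, f ⁻¹ᵁ (V i).1) k := fun k => by
      have key : ∀ (φ : Γ(U, (V i).1) ⟶ Γ(R, f ⁻¹ᵁ (V i).1)), φ = f.app (V i).1 →
          (letI := φ.hom.toAlgebra; Fitt.ideal Γ(U, (V i).1) Γ(R, f ⁻¹ᵁ (V i).1) k) =
            (letI := (f.app (V i).1).hom.toAlgebra; Fitt.ideal Γ(U, (V i).1) Γ(R, f ⁻¹ᵁ (V i).1) k) :=
        fun φ hφ => by subst hφ; rfl
      exact key _ (Scheme.Hom.appLE_eq_app _)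
    obtain ⟨hfp, hP, hR⟩ := fitA_iff ((e _).symm.trans (h1 i)) ((e _).symm.trans (h2 i))
    refine ⟨?_, ?_, hR⟩
    · exact (inferInstance : Module.Flat Γ(U, (V i).1) Γ(R, f ⁻¹ᵁ (V i).1))
    · exact (inferInstance : Algebra.FinitePresentation Γ(U, (V i).1) Γ(R, f ⁻¹ᵁ (V i).1))
  haveI hflat : Flat f := by
    rw [HasRingHomProperty.iff_exists_appLE (P := @Flat)
      (RingHom.Flat.stableUnderComposition.stableUnderCompositionWithLocalizationAway RingHom.Flat.holdsForLocalizationAway).1]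
    intro x
    obtain ⟨i, hi⟩ := hV (f x)
    exact ⟨V i, ⟨_, (V i).2.preimage f⟩, hi, le_rfl, by rw [Scheme.Hom.appLE_eq_app]; exact (key i).1⟩
  haveI hlfp : LocallyOfFinitePresentation f := by
    rw [HasRingHomProperty.iff_exists_appLE (P := @LocallyOfFinitePresentation)
      (RingHom.finitePresentation_stableUnderComposition.stableUnderCompositionWithLocalizationAway RingHom.finitePresentation_holdsForLocalizationAway).1]
    intro x
    obtain ⟨i, hi⟩ := hV (f x)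
    exact ⟨V i, ⟨_, (V i).2.preimage f⟩, hi, le_rfl, by rw [Scheme.Hom.appLE_eq_app]; exact (key i).2.1⟩
  refine ⟨⟨inferInstance, hflat, hlfp⟩, fun i x hx => ?_⟩
  have hc := Codim1Iso.isPullback_fromSpec f (V i).2
  letI : Algebra Γ(U, (V i).1) Γ(R, f ⁻¹ᵁ (V i).1) := (f.app (V i).1).hom.toAlgebra
  haveI : Module.Finite Γ(U, (V i).1) Γ(R, f ⁻¹ᵁ (V i).1) := f.finite_app _ (V i).2
  haveI : Module.Flat Γ(U, (V i).1) Γ(R, f ⁻¹ᵁ (V i).1) := (key i).1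
  have h := Scheme.Hom.finrank_of_isPullback _ _ _ _ hc ((V i).2.primeIdealOf ⟨x, hx⟩)
  rw [(V i).2.fromSpec_primeIdealOf] at h
  refine h.symm.trans (Eq.trans ?_ ((key i).2.2 ((V i).2.primeIdealOf ⟨x, hx⟩)))
  exact Scheme.Hom.finrank_SpecMap_algebraMap Γ(U, (V i).1) Γ(R, f ⁻¹ᵁ (V i).1) _

end Groth.Agent.GrpdFittLib
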