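import Groth.Agent.GrpdFittLib.Thick
import Groth.Agent.FittStratum.FP

/-!
Finite presentation of the thickening, and generic points.
-/

set_option autoImplicit false
set_option linter.style.haveILetI false
universe u

open CategoryTheory CategoryTheory.Limits AlgebraicGeometry TopologicalSpace

noncomputable section

namespace Groth.Agent.GrpdFittLib

open FinGrpdLib (Rel)

/-- A generic point of a closed subscheme defined by finitely generated ideals is in its interior. -/
theorem mem_interior_support {X : Scheme.{u}} (I : X.IdealSheafData) (hI : ∀ V, (I.ideal V).FG) {y : X}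
    (hy : y ∈ I.support) (hgen : ∀ x : X, x ⤳ y → x = y) : y ∈ interior (I.support : Set X) := by
  classical
  obtain ⟨_, ⟨V : X.Opens, hV, rfl⟩, hyV, -⟩ := X.isBasis_affineOpens.exists_subset_of_mem_open (Set.mem_univ y) isOpen_univ
  let p := hV.primeIdealOf ⟨y, hyV⟩
  have hmin : ∀ q : PrimeSpectrum Γ(X, V), q.asIdeal ≤ p.asIdeal → q = p := fun q hq => by
    have h1 : q ⤳ p := (PrimeSpectrum.le_iff_specializes _ _).1 hq
    have h2 := h1.map hV.fromSpec.continuous
    rw [hV.fromSpec_primeIdealOf] at h2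
    refine hV.fromSpec.isOpenEmbedding.injective ?_
    rw [hV.fromSpec_primeIdealOf]
    exact hgen _ h2
  have hnil : ∀ a ∈ p.asIdeal, ∃ h ∉ p.asIdeal, ∃ n : ℕ, h * a ^ n = 0 := by
    intro a ha
    by_contra hcon
    push Not at hcon
    let M : Submonoid Γ(X, V) := p.asIdeal.primeCompl ⊔ Submonoid.powers a
    have hM : (0 : Γ(X, V)) ∉ M := fun h0 => by
      obtain ⟨h, hh, _, ⟨n, rfl⟩, e⟩ := Submonoid.mem_sup.1 h0
      exact hcon h hh n e
    obtain ⟨q, hq, -, hdisj⟩ := Ideal.exists_le_prime_disjoint (⊥ : Ideal Γ(X, V)) M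
      (Set.disjoint_left.2 fun z hz hzM => hM (by rw [SetLike.mem_coe, Ideal.mem_bot] at hz; exact hz ▸ hzM))
    have hle : q ≤ p.asIdeal := fun z hz => by_contra fun hzp =>
      Set.disjoint_left.1 hdisj hz (Submonoid.mem_sup_left (show z ∈ p.asIdeal.primeCompl from hzp))
    have := hmin ⟨q, hq⟩ hle
    exact Set.disjoint_left.1 hdisj (show a ∈ (⟨q, hq⟩ : PrimeSpectrum Γ(X, V)).asIdeal by rw [this]; exact ha)
      (Submonoid.mem_sup_right (Submonoid.mem_powers a))
  obtain ⟨g, hg⟩ := hI ⟨V, hV⟩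
  have hgp : ∀ a ∈ g, a ∈ p.asIdeal := fun a ha => by
    by_contra hap
    rw [Scheme.IdealSheafData.mem_support_iff_of_mem (U := ⟨V, hV⟩) hyV, Scheme.mem_zeroLocus_iff] at hy
    exact hy a (hg ▸ Ideal.subset_span ha) ((PullbackMod.primeCompl_primeIdealOf hV y hyV a).1 hap)
  choose h hh n hn using fun a : g => hnil a.1 (hgp a.1 a.2)
  let F : Γ(X, V) := ∏ a, h a
  have hF : y ∈ X.basicOpen F :=
    (PullbackMod.primeCompl_primeIdealOf hV y hyV F).1 (prod_mem fun a _ => (show h a ∈ p.asIdeal.primeCompl from hh a))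
  refine ⟨X.basicOpen F, ⟨(X.basicOpen F).2, fun z hz => ?_⟩, hF⟩
  have hzV : z ∈ V := X.basicOpen_le F hz
  rw [SetLike.mem_coe, Scheme.IdealSheafData.mem_support_iff_of_mem (U := ⟨V, hV⟩) hzV, Scheme.mem_zeroLocus_iff]
  intro a ha hza
  refine (PullbackMod.primeCompl_primeIdealOf hV z hzV a).2 hza ?_
  have hFq : F ∉ (hV.primeIdealOf ⟨z, hzV⟩).asIdeal := (PullbackMod.primeCompl_primeIdealOf hV z hzV F).2 hz
  have hspan : (Ideal.span (g : Set Γ(X, V))) ≤ (hV.primeIdealOf ⟨z, hzV⟩).asIdeal := Ideal.span_le.2 fun b hb => by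
    have h0 : h ⟨b, hb⟩ * b ^ n ⟨b, hb⟩ ∈ (hV.primeIdealOf ⟨z, hzV⟩).asIdeal := by
      rw [hn ⟨b, hb⟩]; exact zero_mem _
    rcases (hV.primeIdealOf ⟨z, hzV⟩).2.mem_or_mem h0 with h' | h'
    · exact absurd (Ideal.mem_of_dvd _ (Finset.dvd_prod_of_mem h (Finset.mem_univ (⟨b, hb⟩ : g))) h') hFq
    · exact (hV.primeIdealOf ⟨z, hzV⟩).2.mem_of_pow_mem _ h'
  exact hspan (hg.symm ▸ ha)

variable {S : Scheme.{u}} (G : Grpd.GroupoidScheme S) [IsFinite G.s] [IsFinite G.t]
  [LocallyOfFinitePresentation G.s]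

/-- Points with generic orbit lie in `W`. -/
theorem mem_W_of_generic (u : G.U) (hu : ∀ y, Rel G y u → ∀ x : G.U, x ⤳ y → x = y) : u ∈ W G := by
  classical
  have hex : ∃ r, u ∉ A G (r + 1) := by
    by_contra hno
    push Not at hno
    have : u ∈ ⋂ r, A G r := Set.mem_iInter.2 fun r => A_antitone G (Nat.le_succ r) (hno r)
    rw [show (⋂ r, A G r) = ∅ from iInter_support_fit G.s] at this
    exact this
  let r := Nat.find hex
  have hur : u ∈ A G r := by
    rcases Nat.eq_zero_or_pos r with h0 | hpos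
    · rw [h0, A_zero]; trivial
    · by_contra hne
      refine Nat.find_min hex (show r - 1 < r by omega) ?_
      rwa [show r - 1 + 1 = r by omega]
  refine Opens.mem_iSup.2 ⟨r, (mem_piece G).2 fun y hy => ⟨?_, fun h => Nat.find_spec hex ((mem_support_rel G (r + 1) hy).1 h)⟩⟩
  exact mem_interior_support _ (fg_fit G.s r) ((mem_support_rel G r hy).2 hur) (hu y hy)

/-- The thickening is of finite presentation. -/
theorem fg_W' (V : (W G).toScheme.affineOpens) : ((W' G).ideal V).FG := by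
  let t : Set Γ((W G).toScheme, V.1) := {f | ∃ r, (W G).toScheme.basicOpen f ≤ P G r}
  have ht : Ideal.span t = ⊤ := by
    rw [← V.2.iSup_basicOpen_eq_self_iff]
    refine le_antisymm (iSup_le fun f => (W G).toScheme.basicOpen_le _) fun x hx => ?_
    obtain ⟨r, hr⟩ := exists_mem_P G x
    obtain ⟨f, hf, hxf⟩ := V.2.exists_basicOpen_le (V := P G r) ⟨x, hr⟩ hx
    exact Opens.mem_iSup.2 ⟨⟨f, r, hf⟩, hxf⟩
  refine Ideal.fg_of_localizationSpan t ht ?_
  rintro ⟨f, r, hf⟩
  have hD : IsAffineOpen ((W G).toScheme.basicOpen f) := V.2.basicOpen f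
  haveI := V.2.isLocalization_basicOpen f
  let e := IsLocalization.algEquiv (Submonoid.powers f) Γ((W G).toScheme, (W G).toScheme.basicOpen f)
    (Localization.Away f)
  have h1 : ((W' G).ideal ⟨_, hD⟩).FG := by
    rw [W'_ideal G r ⟨_, hD⟩ hf,
      IdealStalkLib.comap_ideal _ (W G).ι (hD.image_of_isOpenImmersion (W G).ι) hD ((W G).ι.preimage_image_eq _).ge]
    exact (fg_fit G.s r _).map _
  have h2 : (W' G).ideal ⟨_, hD⟩ = ((W' G).ideal V).map
      (algebraMap Γ((W G).toScheme, V.1) Γ((W G).toScheme, (W G).toScheme.basicOpen f)) :=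
    ((W' G).map_ideal_basicOpen V f).symm
  have h3 := h1.map e.toAlgHom.toRingHom
  rw [h2, Ideal.map_map, AlgHom.toRingHom_eq_coe, AlgHom.comp_algebraMap] at h3
  exact h3

theorem lfp_subschemeι : LocallyOfFinitePresentation (W' G).subschemeι :=
  FittStratum.lfp_subschemeι _ (fg_W' G)

end Groth.Agent.GrpdFittLib
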