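import Groth.Agent.GrpdFittLib.Fit
import Groth.Agent.FinGrpdLib.Scheme
import Groth.Agent.FinGrpdLib.Sat
import Groth.Prelude.Def_Grpd

/-!
The Fitting stratification of a groupoid scheme with finite source and target.
-/

set_option autoImplicit false
set_option linter.style.haveILetI false
universe u

open CategoryTheory CategoryTheory.Limits AlgebraicGeometry TopologicalSpace

noncomputable section

namespace Groth.Agent.GrpdFittLib

variable {S : Scheme.{u}} (G : Grpd.GroupoidScheme S) [IsFinite G.s] [IsFinite G.t]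

/-- The Fitting ideal sheaves of the source map are invariant. -/
theorem comap_s_eq (k : ℕ) : (fit G.s k).comap G.s = (fit G.s k).comap G.t := by
  haveI : IsFinite (pullback.snd G.s G.t) := inferInstance
  rw [comap_fit (IsPullback.of_hasPullback G.s G.t) k, comap_fit (FinGrpdLib.isPullback_comp G) k]

theorem preimage_support (k : ℕ) :
    ⇑G.s ⁻¹' ((fit G.s k).support : Set G.U) = ⇑G.t ⁻¹' ((fit G.s k).support : Set G.U) := by
  have h := congrArg (fun I : G.R.IdealSheafData => (I.support : Set G.R)) (comap_s_eq G k)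
  simpa only [Scheme.IdealSheafData.support_comap, TopologicalSpace.Closeds.coe_preimage] using h

theorem mem_support_rel (k : ℕ) {x y : G.U} (h : FinGrpdLib.Rel G x y) :
    x ∈ (fit G.s k).support ↔ y ∈ (fit G.s k).support := by
  obtain ⟨r, rfl, rfl⟩ := h
  exact (Set.ext_iff.1 (preimage_support G k) r).symm

/-- Closed subschemes with the same pullback ideals have isomorphic pullbacks over `R`. -/
theorem exists_iso_of_comap_eq {X Y R : Scheme.{u}} (a : R ⟶ X) (b : R ⟶ Y) {Z Z' : Scheme.{u}} (i : Z ⟶ X) (j : Z' ⟶ Y)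
    [IsClosedImmersion i] [IsClosedImmersion j] (h : i.ker.comap a = j.ker.comap b) :
    ∃ φ : pullback a i ≅ pullback b j, φ.hom ≫ pullback.fst b j = pullback.fst a i := by
  have e : (pullback.fst a i).ker = (pullback.fst b j).ker := by
    rw [Scheme.IdealSheafData.ker_fst_of_isClosedImmersion, Scheme.IdealSheafData.ker_fst_of_isClosedImmersion, h]
  let l := IsClosedImmersion.lift (pullback.fst b j) (pullback.fst a i) e.ge
  let m := IsClosedImmersion.lift (pullback.fst a i) (pullback.fst b j) e.le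
  refine ⟨⟨l, m, ?_, ?_⟩, IsClosedImmersion.lift_fac _ _ _⟩
  · rw [← cancel_mono (pullback.fst a i), Category.assoc, IsClosedImmersion.lift_fac, IsClosedImmersion.lift_fac,
      Category.id_comp]
  · rw [← cancel_mono (pullback.fst b j), Category.assoc, IsClosedImmersion.lift_fac, IsClosedImmersion.lift_fac,
      Category.id_comp]

/-- Invariance of the strata. -/
theorem exists_iso_fit (k : ℕ) :
    ∃ φ : pullback G.s (fit G.s k).subschemeι ≅ pullback G.t (fit G.s k).subschemeι,
      φ.hom ≫ pullback.fst G.t (fit G.s k).subschemeι = pullback.fst G.s (fit G.s k).subschemeι :=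
  exists_iso_of_comap_eq G.s G.t _ _ (by rw [Scheme.IdealSheafData.ker_subschemeι]; exact comap_s_eq G k)

/-- A morphism to the stratum of rank `r + 1`. -/
theorem finLocFree_stratum (r : ℕ) {T : Scheme.{u}} (g : T ⟶ G.U) (h1 : fit G.s r ≤ g.ker)
    (h2 : ∀ x : T, g x ∉ (fit G.s (r + 1)).support) :
    Mor2.IsFinLocFreeOfDeg (r + 1) (pullback.snd G.s g) := by
  haveI : IsFinite (pullback.snd G.s g) := inferInstance
  have hc := IsPullback.of_hasPullback G.s g
  have e1 : fit (pullback.snd G.s g) r = ⊥ := by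
    rw [← comap_fit hc, eq_bot_iff, ← Scheme.IdealSheafData.le_map_iff_comap_le, Scheme.IdealSheafData.map_bot]
    exact h1
  have e2 : fit (pullback.snd G.s g) (r + 1) = ⊤ := by
    rw [← comap_fit hc, ← Scheme.IdealSheafData.support_eq_bot_iff, Scheme.IdealSheafData.support_comap]
    exact SetLike.ext fun x => iff_of_false (h2 x) fun h => h
  obtain ⟨hf, hr⟩ := finLocFree_of_fit (pullback.snd G.s g) (fun V : T.affineOpens => V) (fun _ => r)
    (fun x => by
      obtain ⟨_, ⟨V : T.Opens, hV, rfl⟩, hxV, -⟩ :=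
        T.isBasis_affineOpens.exists_subset_of_mem_open (Set.mem_univ x) isOpen_univ
      exact ⟨⟨V, hV⟩, hxV⟩)
    (fun V => by rw [e1]; rfl) (fun V => by rw [e2]; rfl)
  refine ⟨hf, fun x => ?_⟩
  obtain ⟨_, ⟨V : T.Opens, hV, rfl⟩, hxV, -⟩ :=
    T.isBasis_affineOpens.exists_subset_of_mem_open (Set.mem_univ x) isOpen_univ
  exact hr ⟨V, hV⟩ x hxV

/-- The invariant Fitting stratification. -/
theorem exists_stratification : ∃ Z : ℕ → G.U.IdealSheafData, Z 0 = ⊥ ∧ Monotone Z ∧
    (⋂ r, ((Z r).support : Set G.U)) = ∅ ∧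
    (∀ r, ∃ φ : pullback G.s (Z r).subschemeι ≅ pullback G.t (Z r).subschemeι,
      φ.hom ≫ pullback.fst G.t (Z r).subschemeι = pullback.fst G.s (Z r).subschemeι) ∧
    ∀ r, Mor2.IsFinLocFreeOfDeg (r + 1)
      (pullback.snd G.s (((Z r).subschemeι ⁻¹ᵁ (Z (r + 1)).support.compl).ι ≫ (Z r).subschemeι)) := by
  refine ⟨fit G.s, fit_zero_of_section G.s G.e G.e_s, fit_mono G.s, iInter_support_fit G.s, exists_iso_fit G,
    fun r => finLocFree_stratum G r _ ?_ fun x => ?_⟩
  · exact (fit G.s r).ker_subschemeι.symm.le.trans (Scheme.Hom.le_ker_comp _ _)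
  · rw [Scheme.Hom.comp_apply]
    exact x.2

end Groth.Agent.GrpdFittLib
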