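import Groth.Agent.GrpdFittLib.Strata
import Groth.Agent.FinGrpdLib.Res

/-!
The open of constant Fitting rank and its thickened locally free groupoid.
-/

set_option autoImplicit false
set_option linter.style.haveILetI false
universe u

open CategoryTheory CategoryTheory.Limits AlgebraicGeometry TopologicalSpace

noncomputable section

namespace Groth.Agent.GrpdFittLib

open FinGrpdLib (Rel)

variable {S : Scheme.{u}} (G : Grpd.GroupoidScheme S) [IsFinite G.s] [IsFinite G.t]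

/-- The set underlying the `r`-th closed stratum. -/
def A (r : ℕ) : Set G.U := (fit G.s r).support

theorem A_zero : A G 0 = Set.univ := by
  rw [A, fit_zero_of_section G.s G.e G.e_s, Scheme.IdealSheafData.support_bot]
  rfl

theorem A_antitone : Antitone (A G) := fun _ _ h => Scheme.IdealSheafData.support_antitone (fit_mono G.s h)

/-- Interior of a stratum. -/
def inner (r : ℕ) : G.U.Opens :=
  ⟨interior (A G r) ∩ (A G (r + 1))ᶜ, isOpen_interior.inter (fit G.s (r + 1)).support.isClosed.isOpen_compl⟩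

/-- The largest invariant open of rank `r + 1`. -/
def piece (r : ℕ) : G.U.Opens := (FinGrpdLib.exists_interior G (inner G r)).choose

theorem mem_piece {r : ℕ} {x : G.U} : x ∈ piece G r ↔ ∀ y, Rel G y x → y ∈ inner G r :=
  (FinGrpdLib.exists_interior G (inner G r)).choose_spec x

theorem piece_le_inner (r : ℕ) : piece G r ≤ inner G r := fun x hx => (mem_piece G).1 hx x (Rel.refl G x)

theorem piece_rel {r : ℕ} {x y : G.U} (h : Rel G x y) (hx : x ∈ piece G r) : y ∈ piece G r :=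
  (mem_piece G).2 fun z hz => (mem_piece G).1 hx z (hz.trans h.symm)

theorem piece_disjoint {r j : ℕ} {x : G.U} (hr : x ∈ piece G r) (hj : x ∈ piece G j) : r = j := by
  have key : ∀ {a b : ℕ}, x ∈ piece G a → x ∈ piece G b → ¬ a < b := fun {a b} ha hb hab =>
    (piece_le_inner G a ha).2 (A_antitone G hab (interior_subset (piece_le_inner G b hb).1))
  exact le_antisymm (not_lt.1 (key hj hr)) (not_lt.1 (key hr hj))

/-- The union of the pieces. -/
def W : G.U.Opens := ⨆ r, piece G r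

theorem W_invariant : G.s ⁻¹ᵁ W G = G.t ⁻¹ᵁ W G := by
  rw [FinGrpdLib.invariant_iff G]
  intro x y h hx
  obtain ⟨r, hr⟩ := Opens.mem_iSup.1 hx
  exact Opens.mem_iSup.2 ⟨r, piece_rel G h hr⟩

/-- A piece as an open of `W`. -/
def P (r : ℕ) : (W G).toScheme.Opens := (W G).ι ⁻¹ᵁ piece G r

theorem exists_mem_P (x : (W G).toScheme) : ∃ r, x ∈ P G r := by
  obtain ⟨r, hr⟩ := Opens.mem_iSup.1 (show x.1 ∈ ⨆ r, piece G r from x.2)
  exact ⟨r, hr⟩

/-- The other pieces. -/
def C (r : ℕ) : (W G).toScheme.Opens := ⨆ (j : ℕ) (_ : j ≠ r), P G j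

theorem C_eq_compl (r : ℕ) : (C G r : Set (W G).toScheme) = (P G r : Set (W G).toScheme)ᶜ := by
  ext x
  simp only [C, SetLike.mem_coe, Opens.mem_iSup, Set.mem_compl_iff]
  constructor
  · rintro ⟨j, hj, hx⟩ hr
    exact hj (piece_disjoint G hx hr)
  · intro hr
    obtain ⟨j, hj⟩ := exists_mem_P G x
    exact ⟨j, fun e => hr (e ▸ hj), hj⟩

instance isClosedImmersion_C (r : ℕ) : IsClosedImmersion (C G r).ι :=
  .of_isPreimmersion _ (by rw [Scheme.Opens.range_ι, C_eq_compl]; exact (P G r).2.isClosed_compl)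

/-- The ideal of the other pieces. -/
def K (r : ℕ) : (W G).toScheme.IdealSheafData := (C G r).ι.ker

theorem K_ideal_self (r : ℕ) (V : (W G).toScheme.affineOpens) (hV : V.1 ≤ P G r) : (K G r).ideal V = ⊤ := by
  rw [K, Scheme.Hom.ker_apply, eq_top_iff]
  intro a _
  have he : (C G r).ι ⁻¹ᵁ V.1 = ⊥ := by
    ext x
    refine iff_of_false (fun hx => ?_) (fun h => h)
    exact (C_eq_compl G r).le x.2 (hV hx)
  haveI : Subsingleton Γ((C G r).toScheme, (C G r).ι ⁻¹ᵁ V.1) := by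
    rw [he]; exact CommRingCat.subsingleton_of_isTerminal ((C G r).toScheme.sheaf.isTerminalOfEmpty)
  exact RingHom.mem_ker.2 (Subsingleton.elim _ _)

theorem K_ideal_other {r j : ℕ} (h : j ≠ r) (V : (W G).toScheme.affineOpens) (hV : V.1 ≤ P G j) :
    (K G r).ideal V = ⊥ := by
  rw [K, Scheme.Hom.ker_apply, eq_bot_iff]
  intro a ha
  haveI : IsIso ((C G r).ι.app V.1) := Scheme.Hom.isIso_app _ _ (by
    rw [Scheme.Opens.opensRange_ι]
    exact hV.trans (le_iSup₂ (f := fun (j : ℕ) (_ : j ≠ r) => P G j) j h))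
  exact Ideal.mem_bot.2 ((ConcreteCategory.bijective_of_isIso ((C G r).ι.app V.1)).1
    ((RingHom.mem_ker.1 ha).trans (map_zero _).symm))

/-- The ideal of the thickened stratum. -/
def W' : (W G).toScheme.IdealSheafData := ⨆ r, (fit G.s r).comap (W G).ι ⊓ K G r

theorem W'_ideal (j : ℕ) (V : (W G).toScheme.affineOpens) (hV : V.1 ≤ P G j) :
    (W' G).ideal V = ((fit G.s j).comap (W G).ι).ideal V := by
  rw [W', Scheme.IdealSheafData.ideal_iSup, iSup_apply]
  refine le_antisymm (iSup_le fun r => ?_) (le_iSup_of_le j ?_)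
  · rw [Scheme.IdealSheafData.ideal_inf, Pi.inf_apply]
    rcases eq_or_ne j r with rfl | hne
    · exact inf_le_left
    · rw [K_ideal_other G hne V hV]
      exact inf_le_right.trans bot_le
  · rw [Scheme.IdealSheafData.ideal_inf, Pi.inf_apply, K_ideal_self G j V hV, inf_top_eq]

theorem exists_affine_P (x : (W G).toScheme) :
    ∃ (r : ℕ) (V : (W G).toScheme.affineOpens), x ∈ V.1 ∧ V.1 ≤ P G r := by
  obtain ⟨r, hr⟩ := exists_mem_P G x
  obtain ⟨_, ⟨V : (W G).toScheme.Opens, hV, rfl⟩, hxV, hVP⟩ :=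
    (W G).toScheme.isBasis_affineOpens.exists_subset_of_mem_open hr (P G r).2
  exact ⟨r, ⟨V, hV⟩, hxV, hVP⟩

theorem support_W' : (W' G).support = ⊤ := by
  refine SetLike.ext fun x => iff_of_true ?_ (show x ∈ (Set.univ : Set (W G).toScheme) from trivial)
  obtain ⟨r, V, hxV, hVP⟩ := exists_affine_P G x
  have h : x ∈ ((fit G.s r).comap (W G).ι).support := by
    rw [Scheme.IdealSheafData.support_comap]
    show (W G).ι x ∈ A G r
    exact interior_subset (piece_le_inner G r (hVP hxV)).1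
  rw [Scheme.IdealSheafData.mem_support_iff_of_mem hxV] at h ⊢
  rwa [W'_ideal G r V hVP]

/-- The source map over `W`. -/
abbrev sW : (G.s ⁻¹ᵁ W G).toScheme ⟶ (W G).toScheme := G.s.resLE (W G) (G.s ⁻¹ᵁ W G) le_rfl

/-- The target map over `W`. -/
abbrev tW : (G.s ⁻¹ᵁ W G).toScheme ⟶ (W G).toScheme := G.t.resLE (W G) (G.s ⁻¹ᵁ W G) (W_invariant G).le

theorem comap_W'_eq : (W' G).comap (sW G) = (W' G).comap (tW G) := by
  let ι := {V : (G.s ⁻¹ᵁ W G).toScheme.affineOpens // ∃ (r : ℕ) (Va Vb : (W G).toScheme.affineOpens),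
    Va.1 ≤ P G r ∧ Vb.1 ≤ P G r ∧ V.1 ≤ sW G ⁻¹ᵁ Va.1 ∧ V.1 ≤ tW G ⁻¹ᵁ Vb.1}
  refine Scheme.IdealSheafData.ext_of_iSup_eq_top (ι := ι) (fun i => i.1) (top_le_iff.1 fun x _ => ?_) fun i => ?_
  · obtain ⟨r, hr⟩ := exists_mem_P G (sW G x)
    have hr' : tW G x ∈ P G r := by
      show ((W G).ι (tW G x)) ∈ piece G r
      rw [← Scheme.Hom.comp_apply, Scheme.Hom.resLE_comp_ι, Scheme.Hom.comp_apply]
      refine piece_rel G (x := G.s ((G.s ⁻¹ᵁ W G).ι x)) (Rel.symm ⟨_, rfl, rfl⟩) ?_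
      rw [← Scheme.Hom.comp_apply, ← Scheme.Hom.resLE_comp_ι G.s (le_refl (G.s ⁻¹ᵁ W G)), Scheme.Hom.comp_apply]
      exact hr
    obtain ⟨_, ⟨Va : (W G).toScheme.Opens, hVa, rfl⟩, hxa, hVaP⟩ :=
      (W G).toScheme.isBasis_affineOpens.exists_subset_of_mem_open hr (P G r).2
    obtain ⟨_, ⟨Vb : (W G).toScheme.Opens, hVb, rfl⟩, hxb, hVbP⟩ :=
      (W G).toScheme.isBasis_affineOpens.exists_subset_of_mem_open hr' (P G r).2
    obtain ⟨_, ⟨V : (G.s ⁻¹ᵁ W G).toScheme.Opens, hV, rfl⟩, hxV, hVle⟩ :=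
      (G.s ⁻¹ᵁ W G).toScheme.isBasis_affineOpens.exists_subset_of_mem_open (a := x)
        (u := ↑(sW G ⁻¹ᵁ Va ⊓ tW G ⁻¹ᵁ Vb)) ⟨hxa, hxb⟩ (sW G ⁻¹ᵁ Va ⊓ tW G ⁻¹ᵁ Vb).2
    exact Opens.mem_iSup.2 ⟨⟨⟨V, hV⟩, r, ⟨Va, hVa⟩, ⟨Vb, hVb⟩, hVaP, hVbP, fun y hy => (hVle hy).1,
      fun y hy => (hVle hy).2⟩, hxV⟩
  · obtain ⟨V, r, Va, Vb, hVaP, hVbP, hVa, hVb⟩ := i
    rw [IdealStalkLib.comap_ideal _ _ Va.2 V.2 hVa, IdealStalkLib.comap_ideal _ _ Vb.2 V.2 hVb, W'_ideal G r Va hVaP,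
      W'_ideal G r Vb hVbP, ← IdealStalkLib.comap_ideal _ _ Va.2 V.2 hVa, ← IdealStalkLib.comap_ideal _ _ Vb.2 V.2 hVb,
      ← Scheme.IdealSheafData.comap_comp, ← Scheme.IdealSheafData.comap_comp, Scheme.Hom.resLE_comp_ι,
      Scheme.Hom.resLE_comp_ι, Scheme.IdealSheafData.comap_comp, Scheme.IdealSheafData.comap_comp, comap_s_eq G r]

/-- The restricted square over an open with prescribed preimage. -/
theorem isPullback_resLE_open {X Y : Scheme.{u}} (f : X ⟶ Y) (U : Y.Opens) (V : X.Opens) (e : V = f ⁻¹ᵁ U) :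
    IsPullback V.ι (f.resLE U V e.le) f U.ι := by
  refine (IsOpenImmersion.isPullback _ _ _ _ ?_ ?_).flip
  · exact (Scheme.Hom.resLE_comp_ι _ _).symm
  · rw [Scheme.Opens.opensRange_ι, Scheme.Opens.opensRange_ι]
    exact e.symm

/-- The inclusion of the thickened stratum. -/
abbrev incl : (W' G).subscheme ⟶ G.U := (W' G).subschemeι ≫ (W G).ι

theorem exists_iso_incl :
    ∃ φ : pullback G.s (incl G) ≅ pullback G.t (incl G), φ.hom ≫ pullback.fst G.t (incl G) = pullback.fst G.s (incl G) := by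
  obtain ⟨φ, hφ⟩ := exists_iso_of_comap_eq (sW G) (tW G) (W' G).subschemeι (W' G).subschemeι
    (by rw [Scheme.IdealSheafData.ker_subschemeι]; exact comap_W'_eq G)
  have h1 : IsPullback (pullback.fst (sW G) (W' G).subschemeι ≫ (G.s ⁻¹ᵁ W G).ι)
      (pullback.snd (sW G) (W' G).subschemeι) G.s (incl G) :=
    (IsPullback.of_hasPullback (sW G) (W' G).subschemeι).paste_horiz
      (isPullback_resLE_open G.s (W G) (G.s ⁻¹ᵁ W G) rfl)
  have h2 : IsPullback (pullback.fst (tW G) (W' G).subschemeι ≫ (G.s ⁻¹ᵁ W G).ι)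
      (pullback.snd (tW G) (W' G).subschemeι) G.t (incl G) :=
    (IsPullback.of_hasPullback (tW G) (W' G).subschemeι).paste_horiz
      (isPullback_resLE_open G.t (W G) (G.s ⁻¹ᵁ W G) (W_invariant G))
  refine ⟨h1.isoPullback.symm ≪≫ φ ≪≫ h2.isoPullback, ?_⟩
  simp only [Iso.trans_hom, Iso.symm_hom, Category.assoc, h2.isoPullback_hom_fst]
  rw [reassoc_of% hφ, h1.isoPullback_inv_fst]

theorem finLocFree_s : Mor2.IsFinLocFree (pullback.snd G.s (incl G)) := by
  let f' := pullback.snd G.s (incl G)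
  haveI : IsFinite f' := inferInstance
  have hc := IsPullback.of_hasPullback G.s (incl G)
  let ι := {V : (W' G).subscheme.affineOpens // ∃ (r : ℕ) (Va : (W G).toScheme.affineOpens),
    Va.1 ≤ P G r ∧ V.1 ≤ (W' G).subschemeι ⁻¹ᵁ Va.1}
  choose rk Va hVa hle using fun i : ι => i.2
  refine (finLocFree_of_fit f' (fun i : ι => i.1) rk (fun x => ?_) (fun i => ?_) (fun i => ?_)).1
  · obtain ⟨r, V₀, hxV, hVP⟩ := exists_affine_P G ((W' G).subschemeι x)
    obtain ⟨_, ⟨V : (W' G).subscheme.Opens, hV, rfl⟩, hxV', hV'⟩ :=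
      (W' G).subscheme.isBasis_affineOpens.exists_subset_of_mem_open (a := x)
        (u := ↑((W' G).subschemeι ⁻¹ᵁ V₀.1)) hxV ((W' G).subschemeι ⁻¹ᵁ V₀.1).2
    exact ⟨⟨⟨V, hV⟩, r, V₀, hVP, hV'⟩, hxV'⟩
  · rw [← comap_fit hc, Scheme.IdealSheafData.comap_comp, IdealStalkLib.comap_ideal _ _ (Va i).2 i.1.2 (hle i),
      ← W'_ideal G (rk i) (Va i) (hVa i), ← IdealStalkLib.comap_ideal _ _ (Va i).2 i.1.2 (hle i),
      show (W' G).comap (W' G).subschemeι = ⊥ from eq_bot_iff.2 (Scheme.IdealSheafData.le_map_iff_comap_le.1 (by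
        rw [Scheme.IdealSheafData.map_bot, Scheme.IdealSheafData.ker_subschemeι]))]
    rfl
  · rw [← comap_fit hc, Scheme.IdealSheafData.comap_comp, IdealStalkLib.comap_ideal _ _ (Va i).2 i.1.2 (hle i)]
    have hnot : ∀ y ∈ (Va i).1, y ∉ ((fit G.s (rk i + 1)).comap (W G).ι).support := fun y hy hy' => by
      rw [Scheme.IdealSheafData.support_comap] at hy'
      exact (piece_le_inner G (rk i) (hVa i hy)).2 hy'
    have htop : ((fit G.s (rk i + 1)).comap (W G).ι).ideal (Va i) = ⊤ := by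
      by_contra hne
      obtain ⟨m, hm, hle'⟩ := Ideal.exists_le_maximal _ hne
      let y := (Va i).2.fromSpec ⟨m, hm.isPrime⟩
      have hy : y ∈ (Va i).1 := by
        have : y ∈ Set.range (Va i).2.fromSpec := ⟨_, rfl⟩
        rwa [(Va i).2.range_fromSpec] at this
      refine hnot y hy ((Scheme.IdealSheafData.mem_support_iff_of_mem hy).2 ?_)
      rw [Scheme.mem_zeroLocus_iff]
      intro a ha hya
      rw [← Scheme.Hom.mem_preimage, (Va i).2.fromSpec_preimage_basicOpen] at hya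
      exact hya (hle' ha)
    rw [htop, Ideal.map_top]

theorem finLocFree_t : Mor2.IsFinLocFree (pullback.snd G.t (incl G)) := by
  obtain ⟨h1, h2, h3⟩ := finLocFree_s G
  haveI := FinGrpdLib.isIso_i G
  have hit : G.i ≫ G.s = G.t := G.i_s
  let e := pullback.map G.t (incl G) G.s (incl G) G.i (𝟙 _) (𝟙 _) (by rw [hit]; simp) (by simp)
  have he : e ≫ pullback.snd G.s (incl G) = pullback.snd G.t (incl G) :=
    (pullback.lift_snd _ _ _).trans (Category.comp_id _)
  haveI : IsIso e := pullback.map_isIso _ _ _ _ _ _ _ _ _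
  rw [← he]
  haveI := h2
  haveI := h3
  haveI := h1
  exact ⟨inferInstance, inferInstance, inferInstance⟩

/-- Every orbit meets the closure of `W`. -/
theorem exists_mem_closure (u : G.U) : ∃ r : G.R, G.t r = u ∧ G.s r ∈ closure (W G : Set G.U) := by
  classical
  let T : Set G.U := ⇑G.t '' (⇑G.s ⁻¹' closure (W G : Set G.U))
  suffices h : u ∈ T by
    obtain ⟨r, hr, rfl⟩ := h
    exact ⟨r, rfl, hr⟩
  by_contra hu
  have hT : IsClosed T := G.t.isClosedMap _ (isClosed_closure.preimage G.s.continuous)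
  have hrel : ∀ {x y : G.U}, Rel G x y → x ∉ T → y ∉ T := fun {x y} h hx hy => by
    obtain ⟨z, hz, h'⟩ := (FinGrpdLib.mem_sat G).1 hy
    exact hx ((FinGrpdLib.mem_sat G).2 ⟨z, hz, h.trans h'⟩)
  have hex : ∃ r, ∃ x, x ∉ T ∧ x ∉ A G (r + 1) := by
    by_contra hno
    push Not at hno
    have : u ∈ ⋂ r, A G r := Set.mem_iInter.2 fun r => A_antitone G (Nat.le_succ r) (hno r u hu)
    rw [show (⋂ r, A G r) = ∅ from iInter_support_fit G.s] at this
    exact this
  obtain ⟨x, hxT, hxA⟩ := Nat.find_spec hex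
  let r := Nat.find hex
  have hall : ∀ y, y ∉ T → y ∈ A G r := by
    intro y hy
    rcases Nat.eq_zero_or_pos r with h0 | hpos
    · rw [h0, A_zero]; trivial
    · by_contra hne
      refine Nat.find_min hex (show r - 1 < r by omega) ⟨y, hy, ?_⟩
      rwa [show r - 1 + 1 = r by omega]
  have hx : x ∈ piece G r := (mem_piece G).2 fun y hy => by
    refine ⟨interior_maximal (fun z hz => hall z hz) hT.isOpen_compl (hrel hy.symm hxT), fun hyA => hxA ?_⟩
    exact (mem_support_rel G (r + 1) hy).1 hyA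
  exact hxT (FinGrpdLib.subset_sat G _ (subset_closure (Opens.mem_iSup.2 ⟨r, hx⟩)))

end Groth.Agent.GrpdFittLib
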